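import Cfsg.Agent.Lib.Helper5.CS4.Defs
import Cfsg.Agent.S4035

set_option autoImplicit false

/-!
Package [GOODS] of the S4146 project: the structure of the centralizer of a good element.
-/

namespace Cfsg.Agent.Lib.Helper16.CS4

open Cfsg.Agent.Lib.Helper5.CS4

universe u

/-- The centralizer of an element of a subgroup, computed inside the subgroup. -/
theorem centralizer_subtype_eq {G : Type u} [Group G] (H : Subgroup G) (y : H) :
    Subgroup.centralizer ({y} : Set H) =
      (Subgroup.centralizer ({(y : G)} : Set G)).subgroupOf H := by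
  ext g
  simp only [Subgroup.mem_centralizer_iff, Set.mem_singleton_iff, forall_eq,
    Subgroup.mem_subgroupOf]
  constructor
  · intro h
    have := congrArg (fun z : H => (z : G)) h
    simpa using this
  · intro h
    apply Subtype.ext
    simpa using h

/-- Class size of an element of a subgroup, inside the subgroup, as a relative index. -/
theorem cidx_subtype_eq {G : Type u} [Group G] (H : Subgroup G) (y : H) :
    (Subgroup.centralizer ({y} : Set H)).index =
      (Subgroup.centralizer ({(y : G)} : Set G)).relIndex H := by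
  rw [centralizer_subtype_eq]
  rfl

/-- The key computation for a good `b`: elements of `C(b)` of order prime to `s` have relative
class size `1` or `n` in `C(b)`. -/
theorem relIndex_of_coprime (hCop : PkgCop.{u}) {G : Type u} [Group G] [Finite G] (n m : ℕ)
    (ctx : Ctx G n m) (b : G) (s j : ℕ) (hs : s.Prime) (hb : orderOf b = s ^ j)
    (hbm : cidx b = m) (y : G) (hy : y * b = b * y) (hys : (orderOf y).Coprime s) :
    (Subgroup.centralizer ({y} : Set G)).relIndex (Subgroup.centralizer ({b} : Set G)) = 1 ∨
    (Subgroup.centralizer ({y} : Set G)).relIndex (Subgroup.centralizer ({b} : Set G)) = n := by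
  obtain ⟨hn, hm, hcop, hr⟩ := ctx
  have hco : (orderOf b).Coprime (orderOf y) := by
    rw [hb]
    exact Nat.Coprime.pow_left j hys.symm
  have h1 := hCop b y hy.symm hco
  have h2 : cidx (b * y) ∈ ({1, n, m, n * m} : Set ℕ) := by
    rw [← hr]
    exact ⟨b * y, rfl⟩
  have h3 : cidx (b * y) =
      (Subgroup.centralizer ({y} : Set G)).relIndex (Subgroup.centralizer ({b} : Set G)) * m := by
    change (Subgroup.centralizer ({b * y} : Set G)).index = _
    rw [h1, ← hbm]
    change _ = _ * (Subgroup.centralizer ({b} : Set G)).index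
    rw [← Subgroup.inf_relIndex_left, Subgroup.relIndex_mul_index inf_le_left]
  rw [h3] at h2
  set k := (Subgroup.centralizer ({y} : Set G)).relIndex (Subgroup.centralizer ({b} : Set G))
  simp only [Set.mem_insert_iff, Set.mem_singleton_iff] at h2
  rcases h2 with h | h | h | h
  · exfalso
    have : m = 1 := Nat.eq_one_of_mul_eq_one_left h
    omega
  · exfalso
    have hd : m ∣ n := ⟨k, by rw [← h, mul_comm]⟩
    have : m ∣ 1 := by
      have := Nat.dvd_gcd hd dvd_rfl
      rwa [hcop.gcd_eq_one] at this
    have : m = 1 := Nat.dvd_one.mp this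
    omega
  · left
    have : k * m = 1 * m := by rw [h, one_mul]
    exact Nat.eq_of_mul_eq_mul_right (by omega) this
  · right
    exact Nat.eq_of_mul_eq_mul_right (by omega) h

/-- Package [GOODS]. -/
theorem pkgGoodS (hCop : PkgCop.{u}) : PkgGoodS.{u} := by
  intro G _ _ n m ctx b s j hs hb hbm hsm
  haveI : Fact s.Prime := ⟨hs⟩
  have hcop : n.Coprime m := ctx.2.2.1
  have hsn : ¬ s ∣ n := by
    intro h
    have := Nat.dvd_gcd h hsm
    rw [hcop.gcd_eq_one] at this
    exact hs.one_lt.ne' (Nat.dvd_one.mp this)
  set H : Subgroup G := Subgroup.centralizer ({b} : Set G) with hH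
  have hmemH : ∀ x : G, x ∈ H ↔ x * b = b * x := by
    intro x
    rw [hH, Subgroup.mem_centralizer_iff]
    simp only [Set.mem_singleton_iff, forall_eq]
    exact eq_comm
  have key : ∀ y : H, (orderOf y).Coprime s →
      (Subgroup.centralizer ({(y : G)} : Set G)).relIndex H = 1 ∨
      (Subgroup.centralizer ({(y : G)} : Set G)).relIndex H = n := by
    intro y hy
    refine relIndex_of_coprime hCop n m ctx b s j hs hb hbm (y : G) ((hmemH _).mp y.2) ?_
    rwa [Subgroup.orderOf_coe]
  have h35 : ∀ y : H, (orderOf y).Coprime s → ¬ s ∣ (ConjClasses.mk y).carrier.ncard := by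
    intro y hy
    rw [Cfsg.Agent.S4035.ncard_carrier_eq_index, cidx_subtype_eq]
    rcases key y hy with h | h
    · rw [h]
      exact fun h1 => hs.one_lt.ne' (Nat.dvd_one.mp h1)
    · rw [h]
      exact hsn
  obtain ⟨P⟩ : Nonempty (Sylow s H) := inferInstance
  obtain ⟨hPn, H'', hH''n, hsH'', hdisj, hsup⟩ := Cfsg.Agent.S4035.result h35 P
  have hdisj' : Disjoint (P : Subgroup H) H'' := disjoint_iff.mpr hdisj
  have hcompl : Subgroup.IsComplement' (P : Subgroup H) H'' := by
    apply Subgroup.isComplement'_of_disjoint_and_mul_eq_univ hdisj'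
    rw [← Subgroup.mul_normal, hsup]
    rfl
  have hidx'' : H''.index = Nat.card (P : Subgroup H) := hcompl.index_eq_card
  have hidxP : (P : Subgroup H).index = Nat.card H'' := hcompl.symm.index_eq_card
  obtain ⟨i, hi⟩ := (IsPGroup.iff_card.mp P.isPGroup')
  have hcopH'' : (Nat.card H'').Coprime s :=
    (Nat.Coprime.symm ((Nat.Prime.coprime_iff_not_dvd hs).mpr hsH''))
  -- `s`-elements of `H` lie in `P`
  have hinP : ∀ x : H, ∀ k : ℕ, orderOf x = s ^ k → x ∈ (P : Subgroup H) := by
    intro x k hk
    have h1 : x ^ (P : Subgroup H).index ∈ (P : Subgroup H) := Subgroup.pow_index_mem _ x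
    have h2 : ((P : Subgroup H).index).Coprime (orderOf x) := by
      rw [hidxP, hk]
      exact Nat.Coprime.pow_right k hcopH''
    obtain ⟨t, ht⟩ := exists_pow_eq_self_of_coprime h2
    rw [← ht]
    exact Subgroup.pow_mem _ h1 t
  -- `s'`-elements of `H` lie in `H''`
  have hinH'' : ∀ x : H, (orderOf x).Coprime s → x ∈ H'' := by
    intro x hx
    have h1 : x ^ H''.index ∈ H'' := Subgroup.pow_index_mem _ x
    have h2 : (H''.index).Coprime (orderOf x) := by
      rw [hidx'', hi]
      exact Nat.Coprime.pow_left i hx.symm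
    obtain ⟨t, ht⟩ := exists_pow_eq_self_of_coprime h2
    rw [← ht]
    exact Subgroup.pow_mem _ h1 t
  have hcomm : ∀ x ∈ (P : Subgroup H), ∀ y ∈ H'', x * y = y * x := by
    intro x hx y hy
    exact Subgroup.commute_of_normal_of_disjoint _ _ hPn hH''n hdisj' x y hx hy
  have hcomapmap : (H''.map H.subtype).subgroupOf H = H'' := by
    rw [Subgroup.subgroupOf]
    exact Subgroup.comap_map_eq_self_of_injective H.subtype_injective H''
  refine ⟨H''.map H.subtype, Subgroup.map_subtype_le _, ⟨i, ?_⟩, ?_, ?_, ?_⟩
  · change ((H''.map H.subtype).subgroupOf H).index = s ^ i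
    rw [hcomapmap, hidx'', hi]
  · intro x hx hxs
    have hxH : x ∈ H := (hmemH x).mpr hx
    refine ⟨⟨x, hxH⟩, hinH'' ⟨x, hxH⟩ ?_, rfl⟩
    rwa [Subgroup.orderOf_mk]
  · intro x hx k hk y hy
    obtain ⟨y', hy', rfl⟩ := hy
    have hxH : x ∈ H := (hmemH x).mpr hx
    have h1 : (⟨x, hxH⟩ : H) ∈ (P : Subgroup H) := by
      apply hinP _ k
      rw [Subgroup.orderOf_mk]
      exact hk
    have h2 := hcomm _ h1 y' hy'
    have := congrArg (fun z : H => (z : G)) h2
    simpa using this
  · intro y hy
    obtain ⟨y', hy', rfl⟩ := hy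
    have hy's : (orderOf y').Coprime s := by
      have h1 : orderOf (⟨y', hy'⟩ : H'') ∣ Nat.card H'' := orderOf_dvd_natCard _
      have h2 : orderOf (⟨y', hy'⟩ : H'') = orderOf y' := by
        rw [← Subgroup.orderOf_coe]
      rw [h2] at h1
      exact Nat.Coprime.coprime_dvd_left h1 hcopH''
    have hk := key y' hy's
    set C' : Subgroup H := (Subgroup.centralizer ({(y' : G)} : Set G)).subgroupOf H with hC'
    have hPC' : (P : Subgroup H) ≤ C' := by
      intro x hx
      rw [hC', ← centralizer_subtype_eq, Subgroup.mem_centralizer_iff]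
      intro z hz
      rw [Set.mem_singleton_iff] at hz
      subst hz
      exact (hcomm x hx z hy').symm
    have hrel1 : (Subgroup.centralizer ({(H.subtype y' : G)} : Set G)).relIndex
        (H''.map H.subtype) = C'.relIndex H'' := by
      rw [hC']
      conv_rhs => rw [← hcomapmap]
      rw [Subgroup.relIndex_subgroupOf (Subgroup.map_subtype_le _)]
      rfl
    have hrel2 : (Subgroup.centralizer ({(y' : G)} : Set G)).relIndex H = C'.index := rfl
    have hsupC : C' ⊔ H'' = ⊤ := by
      apply top_le_iff.mp
      rw [← hsup]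
      exact sup_le_sup_right hPC' _
    have e1 : C'.relIndex H'' * H''.index = (C' ⊓ H'').index := by
      rw [← Subgroup.inf_relIndex_right, Subgroup.relIndex_mul_index inf_le_right]
    have e2 : H''.relIndex C' * C'.index = (C' ⊓ H'').index := by
      rw [← Subgroup.inf_relIndex_left, Subgroup.relIndex_mul_index inf_le_left]
    have e3 : H''.relIndex C' = H''.index := by
      rw [← Subgroup.relIndex_sup_right (H := C') (K := H''), hsupC, Subgroup.relIndex_top_right]
    have e4 : C'.relIndex H'' = C'.index := by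
      have hne : H''.index ≠ 0 := Subgroup.index_ne_zero_of_finite
      have : C'.relIndex H'' * H''.index = C'.index * H''.index := by
        rw [e1, ← e2, e3, mul_comm]
      exact Nat.eq_of_mul_eq_mul_right (Nat.pos_of_ne_zero hne) this
    rw [hrel1, e4, ← hrel2]
    exact hk

end Cfsg.Agent.Lib.Helper16.CS4
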